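import Mathlib
import Cfsg.Agent.Lib.Helper56.TCPerm
import Cfsg.Agent.Lib.Helper56.MYT1.Cert
import Cfsg.Agent.Lib.Helper56.MYS.OrbD
set_option autoImplicit false
set_option maxRecDepth 1000000

namespace Cfsg.Agent.Lib.Helper56.MYS

open Cfsg.Agent.Lib.Helper56.TC Cfsg.Agent.Lib.Helper56.TC.Tabs

theorem o0_c0 : allRange (fun x => forceN (chkOrb MYT1.T o0R 0) x) 0 1080 = true := by decide +kernel
theorem o0_u1080 : Upto (chkOrb MYT1.T o0R 0) 1080 := upto_add (upto_zero (chkOrb MYT1.T o0R 0)) rfl o0_c0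
theorem o0_all : ∀ x < 1080, (chkOrb MYT1.T o0R 0) x = true := o0_u1080

theorem o0_hg : ∀ j < o0R.ng, (∀ a ∈ o0R.gw j, a < MYT1.T.K) ∧
    ∀ b ∈ ([] : List ℕ), b < MYT1.T.N ∧ MYT1.T.followT (o0R.gw j) b = b := by decide +kernel

theorem o1_c0 : allRange (fun x => forceN (chkOrb MYT1.T o1R 1) x) 0 728 = true := by decide +kernel
theorem o1_u728 : Upto (chkOrb MYT1.T o1R 1) 728 := upto_add (upto_zero (chkOrb MYT1.T o1R 1)) rfl o1_c0
theorem o1_all : ∀ x < 728, (chkOrb MYT1.T o1R 1) x = true := o1_u728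

theorem o1_hg : ∀ j < o1R.ng, (∀ a ∈ o1R.gw j, a < MYT1.T.K) ∧
    ∀ b ∈ ([0] : List ℕ), b < MYT1.T.N ∧ MYT1.T.followT (o1R.gw j) b = b := by decide +kernel

theorem o2_c0 : allRange (fun x => forceN (chkOrb MYT1.T o2R 2) x) 0 243 = true := by decide +kernel
theorem o2_u243 : Upto (chkOrb MYT1.T o2R 2) 243 := upto_add (upto_zero (chkOrb MYT1.T o2R 2)) rfl o2_c0
theorem o2_all : ∀ x < 243, (chkOrb MYT1.T o2R 2) x = true := o2_u243

theorem o2_hg : ∀ j < o2R.ng, (∀ a ∈ o2R.gw j, a < MYT1.T.K) ∧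
    ∀ b ∈ ([1, 0] : List ℕ), b < MYT1.T.N ∧ MYT1.T.followT (o2R.gw j) b = b := by decide +kernel

theorem o3_c0 : allRange (fun x => forceN (chkOrb MYT1.T o3R 3) x) 0 72 = true := by decide +kernel
theorem o3_u72 : Upto (chkOrb MYT1.T o3R 3) 72 := upto_add (upto_zero (chkOrb MYT1.T o3R 3)) rfl o3_c0
theorem o3_all : ∀ x < 72, (chkOrb MYT1.T o3R 3) x = true := o3_u72

theorem o3_hg : ∀ j < o3R.ng, (∀ a ∈ o3R.gw j, a < MYT1.T.K) ∧
    ∀ b ∈ ([2, 1, 0] : List ℕ), b < MYT1.T.N ∧ MYT1.T.followT (o3R.gw j) b = b := by decide +kernel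

theorem o4_c0 : allRange (fun x => forceN (chkOrb MYT1.T o4R 16) x) 0 30 = true := by decide +kernel
theorem o4_u30 : Upto (chkOrb MYT1.T o4R 16) 30 := upto_add (upto_zero (chkOrb MYT1.T o4R 16)) rfl o4_c0
theorem o4_all : ∀ x < 30, (chkOrb MYT1.T o4R 16) x = true := o4_u30

theorem o4_hg : ∀ j < o4R.ng, (∀ a ∈ o4R.gw j, a < MYT1.T.K) ∧
    ∀ b ∈ ([3, 2, 1, 0] : List ℕ), b < MYT1.T.N ∧ MYT1.T.followT (o4R.gw j) b = b := by decide +kernel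

theorem o5_c0 : allRange (fun x => forceN (chkOrb MYT1.T o5R 26) x) 0 12 = true := by decide +kernel
theorem o5_u12 : Upto (chkOrb MYT1.T o5R 26) 12 := upto_add (upto_zero (chkOrb MYT1.T o5R 26)) rfl o5_c0
theorem o5_all : ∀ x < 12, (chkOrb MYT1.T o5R 26) x = true := o5_u12

theorem o5_hg : ∀ j < o5R.ng, (∀ a ∈ o5R.gw j, a < MYT1.T.K) ∧
    ∀ b ∈ ([16, 3, 2, 1, 0] : List ℕ), b < MYT1.T.N ∧ MYT1.T.followT (o5R.gw j) b = b := by decide +kernel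

theorem o6_c0 : allRange (fun x => forceN (chkOrb MYT1.T o6R 4) x) 0 2 = true := by decide +kernel
theorem o6_u2 : Upto (chkOrb MYT1.T o6R 4) 2 := upto_add (upto_zero (chkOrb MYT1.T o6R 4)) rfl o6_c0
theorem o6_all : ∀ x < 2, (chkOrb MYT1.T o6R 4) x = true := o6_u2

theorem o6_hg : ∀ j < o6R.ng, (∀ a ∈ o6R.gw j, a < MYT1.T.K) ∧
    ∀ b ∈ ([26, 16, 3, 2, 1, 0] : List ℕ), b < MYT1.T.N ∧ MYT1.T.followT (o6R.gw j) b = b := by decide +kernel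


end Cfsg.Agent.Lib.Helper56.MYS
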